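import Groth.Agent.EtpbcB.BCCrit
import Groth.Agent.Sga4A.EtFam
import Groth.Prelude.Def_EtBCD

/-!
# The degree zero base change map for étale sheaves of sets, in terms of families of germs

For a commutative square `w : g' ≫ f = f' ≫ g` and `F : EtDesc.Sh X`:

* `baseChange0Sh_pullSect` : the base change map evaluated on unit sections;
* `exists_locally_unit₂` : two sections of `q^* F` are locally restrictions of unit sections over the
  same étale scheme;
* `isIso_baseChange0Sh` : criterion in terms of unit sections;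
* `isIso_baseChange0Sh_of_fam` : criterion in terms of families of germs `Fam F q`.
-/

set_option autoImplicit false
set_option backward.isDefEq.respectTransparency.types false
universe u
open CategoryTheory CategoryTheory.Limits AlgebraicGeometry Opposite

namespace Groth.Agent.Etbc.H186.BCCritSh

open Groth.Agent.EtpbcB.BCCrit Groth.Agent.Sga4A.EtStalk EtDesc

theorem sh_map_map {X : Scheme.{u}} (F : Sh X) {U V W : X.Etale} (f : U ⟶ V) (g : V ⟶ W)
    (s : sect F W) : F.obj.map f.op (F.obj.map g.op s) = F.obj.map (f ≫ g).op s := by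
  rw [op_comp, F.obj.map_comp]; rfl

section Base

variable {X Y X' Y' : Scheme.{u}} (f : X ⟶ Y) (g : Y' ⟶ Y) (f' : X' ⟶ Y') (g' : X' ⟶ X)
  (w : g' ≫ f = f' ≫ g)

theorem unit_baseChange0Sh (F : Sh X) :
    (adjSh g).unit.app ((pushSh f).obj F) ≫
      (pushSh g).map (EtBC.baseChange0Sh f g f' g' w F) =
    ((pushSh f).map ((adjSh g').unit.app F) ≫ (pushCompSh f g').hom.app _ ≫
      (EtBC.pushCongrSh w).hom.app _ ≫ (pushCompSh g f').inv.app _) := by
  have := ((adjSh g).homEquiv _ _).apply_symm_apply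
    ((pushSh f).map ((adjSh g').unit.app F) ≫ (pushCompSh f g').hom.app _ ≫
      (EtBC.pushCongrSh w).hom.app _ ≫ (pushCompSh g f').inv.app _)
  rwa [Adjunction.homEquiv_unit] at this

theorem baseChange0Sh_pullSect (F : Sh X) (V : Y.Etale) (σ : sect F ((EtCoh.bc f).obj V)) :
    (EtBC.baseChange0Sh f g f' g' w F).hom.app (op ((EtCoh.bc g).obj V))
      (pullSect g ((pushSh f).obj F) (U := V) σ) =
    ((pullSh g').obj F).obj.map (theta f g f' g' w V).hom.op
      (pullSect g' F (U := (EtCoh.bc f).obj V) σ) := by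
  have h2 := congrArg (fun (b : (pushSh f).obj F ⟶ (pushSh g).obj ((pushSh f').obj
    ((pullSh g').obj F))) => b.hom.app (op V) σ) (unit_baseChange0Sh f g f' g' w F)
  refine h2.trans ?_
  simp [theta, thetaNat, pushCompSh, EtBC.pushCongrSh]
  rfl

theorem baseChange0Sh_pullSect' (F : Sh X) (V : Y.Etale) (σ : sect F ((EtCoh.bc f).obj V))
    (U : Y'.Etale) (b : U ⟶ (EtCoh.bc g).obj V) :
    (EtBC.baseChange0Sh f g f' g' w F).hom.app (op U)
      (((pullSh g).obj ((pushSh f).obj F)).obj.map b.op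
        (pullSect g ((pushSh f).obj F) (U := V) σ)) =
    ((pullSh g').obj F).obj.map ((EtCoh.bc f').map b ≫ (theta f g f' g' w V).hom).op
      (pullSect g' F (U := (EtCoh.bc f).obj V) σ) := by
  have h := ConcreteCategory.congr_hom ((EtBC.baseChange0Sh f g f' g' w F).hom.naturality b.op)
    (pullSect g ((pushSh f).obj F) (U := V) σ)
  refine h.trans ?_
  change ((pushSh f').obj ((pullSh g').obj F)).obj.map b.op
    ((EtBC.baseChange0Sh f g f' g' w F).hom.app (op ((EtCoh.bc g).obj V))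
      (pullSect g ((pushSh f).obj F) (U := V) σ)) = _
  rw [baseChange0Sh_pullSect, op_comp, Functor.map_comp]
  rfl

end Base

section Iso

variable {X : Scheme.{u}}

/-- A morphism of étale sheaves of sets which is locally injective and locally surjective is an
isomorphism. -/
theorem isIso_of_local {A B : Sh X} (φ : A ⟶ B)
    (hinj : ∀ (U : X.Etale) (s t : sect A U), φ.hom.app (op U) s = φ.hom.app (op U) t →
      ∀ x : U.left, ∃ (V : X.Etale) (a : V ⟶ U) (v : V.left), a.left v = x ∧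
        A.obj.map a.op s = A.obj.map a.op t)
    (hsurj : ∀ (U : X.Etale) (t : sect B U) (x : U.left), ∃ (V : X.Etale) (a : V ⟶ U)
      (v : V.left) (s : sect A V), a.left v = x ∧ φ.hom.app (op V) s = B.obj.map a.op t) :
    IsIso φ := by
  have hi : ∀ U : X.Etale, Function.Injective (φ.hom.app (op U)) := by
    intro U s t h
    refine sect_ext A U s t fun x => ?_
    obtain ⟨V, a, v, hv, e⟩ := hinj U s t h x
    exact ⟨V, a, v, hv, e⟩
  exact isIso_of_bijective φ fun U => ⟨hi U, fun t =>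
    app_surjective_of_local φ hi U t fun x => hsurj U t x⟩

end Iso

section LocUnit

variable {X Z : Scheme.{u}} (q : Z ⟶ X) (F : Sh X)

/-- Two sections of `q^* F` are locally restrictions of unit sections over the same étale scheme. -/
theorem exists_locally_unit₂ (U : Z.Etale) (s t : sect ((pullSh q).obj F) U) (x : U.left) :
    ∃ (V : X.Etale) (σ τ : sect F V) (W : Z.Etale) (a : W ⟶ U) (b : W ⟶ (EtCoh.bc q).obj V)
      (w : W.left), a.left w = x ∧
      ((pullSh q).obj F).obj.map a.op s = ((pullSh q).obj F).obj.map b.op (pullSect q F σ) ∧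
      ((pullSh q).obj F).obj.map a.op t = ((pullSh q).obj F).obj.map b.op (pullSect q F τ) := by
  obtain ⟨Ω, _, _, l, hl⟩ := exists_geomPoint U.left x
  obtain ⟨V, l', hl', σ, τ, hσ, hτ⟩ := exists_germ₂ F
    ((pullStk q F (l ≫ U.hom)).symm (germ ((pullSh q).obj F) l rfl s))
    ((pullStk q F (l ≫ U.hom)).symm (germ ((pullSh q).obj F) l rfl t))
  have h1 := pullStk_germ q F (l ≫ U.hom) l' hl' σ
  have h2 := pullStk_germ q F (l ≫ U.hom) l' hl' τ
  rw [hσ, Equiv.apply_symm_apply] at h1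
  rw [hτ, Equiv.apply_symm_apply] at h2
  obtain ⟨W₁, a₁, b₁, n₁, hn₁, ha₁, hb₁, e₁⟩ := (germ_eq_germ_iff _ _ _ _ _ _ _).1 h1
  have h3 : germ ((pullSh q).obj F) n₁ hn₁ (((pullSh q).obj F).obj.map a₁.op t) =
      germ ((pullSh q).obj F) n₁ hn₁ (((pullSh q).obj F).obj.map b₁.op (pullSect q F τ)) := by
    rw [germ_res' _ a₁ n₁ hn₁ l rfl ha₁, germ_res' _ b₁ n₁ hn₁ _ (bcPt_hom q _ l' hl') hb₁]
    exact h2
  obtain ⟨W₂, g, m, hm, e₂⟩ := (germ_eq_iff _ _ _ _ _).1 h3
  refine ⟨V, σ, τ, W₂, g ≫ a₁, g ≫ b₁, m default, ?_, ?_, ?_⟩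
  · rw [← hl, ← ha₁, ← hm]
    rfl
  · rw [← sh_map_map, ← sh_map_map, e₁]
  · rw [← sh_map_map, ← sh_map_map, e₂]

theorem exists_locally_unit (U : Z.Etale) (s : sect ((pullSh q).obj F) U) (x : U.left) :
    ∃ (V : X.Etale) (σ : sect F V) (W : Z.Etale) (a : W ⟶ U) (b : W ⟶ (EtCoh.bc q).obj V)
      (w : W.left), a.left w = x ∧
      ((pullSh q).obj F).obj.map a.op s = ((pullSh q).obj F).obj.map b.op (pullSect q F σ) := by
  obtain ⟨V, σ, τ, W, a, b, w, hw, h, -⟩ := exists_locally_unit₂ q F U s s x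
  exact ⟨V, σ, W, a, b, w, hw, h⟩

end LocUnit

section OfPull

variable {X Y : Scheme.{u}} {F : Sh X} {g : Y ⟶ X}

/-- A section of `g^* F` is determined by its family of germs. -/
theorem ofPullSect_ext {U : Y.Etale} {s t : sect ((pullSh g).obj F) U}
    (h : ∀ (Ω : Type u) [Field Ω] [IsSepClosed Ω] (η : Spec (.of Ω) ⟶ U.left)
      (ξ : Spec (.of Ω) ⟶ X) (e : η ≫ U.hom ≫ g = ξ),
      (Fam.ofPullSect s).val η ξ e = (Fam.ofPullSect t).val η ξ e) : s = t := by
  refine sect_ext_germ' _ U s t fun Ω _ _ l => ?_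
  have h1 := h Ω l _ rfl
  rw [Fam.ofPullSect_val s l (l ≫ U.hom) (l ≫ U.hom ≫ g) rfl rfl (Category.assoc _ _ _),
    Fam.ofPullSect_val t l (l ≫ U.hom) (l ≫ U.hom ≫ g) rfl rfl (Category.assoc _ _ _)] at h1
  exact (Equiv.injective _) h1

/-- The family of the restriction of a section of `g^* F`. -/
theorem ofPullSect_map {U V : Y.Etale} (a : V ⟶ U) (s : sect ((pullSh g).obj F) U)
    {Ω : Type u} [Field Ω] [IsSepClosed Ω] (η : Spec (.of Ω) ⟶ V.left)
    (ξ : Spec (.of Ω) ⟶ X) (e : η ≫ V.hom ≫ g = ξ) (e' : (η ≫ a.left) ≫ U.hom ≫ g = ξ) :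
    (Fam.ofPullSect (((pullSh g).obj F).obj.map a.op s)).val η ξ e =
      (Fam.ofPullSect s).val (η ≫ a.left) ξ e' := by
  have ha : a.left ≫ U.hom = V.hom := Over.w a.hom
  have e₁ : (η ≫ a.left) ≫ U.hom = η ≫ V.hom := by rw [Category.assoc, ha]
  have e₂ : (η ≫ V.hom) ≫ g = ξ := by rw [Category.assoc, e]
  rw [Fam.ofPullSect_val _ η (η ≫ V.hom) ξ e rfl e₂,
    Fam.ofPullSect_val s (η ≫ a.left) (η ≫ V.hom) ξ e' e₁ e₂]
  congr 1
  exact germ_res' _ a η rfl (η ≫ a.left) e₁ rfl s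

/-- The family of a unit section. -/
theorem ofPullSect_pullSect {V : X.Etale} (σ : sect F V)
    {Ω : Type u} [Field Ω] [IsSepClosed Ω] (η : Spec (.of Ω) ⟶ ((EtCoh.bc g).obj V).left)
    (ξ : Spec (.of Ω) ⟶ X) (e : η ≫ ((EtCoh.bc g).obj V).hom ≫ g = ξ)
    (e' : (η ≫ bcFst g V) ≫ V.hom = ξ) :
    (Fam.ofPullSect (pullSect g F σ)).val η ξ e = germ F (η ≫ bcFst g V) e' σ := by
  have e₂ : (η ≫ ((EtCoh.bc g).obj V).hom) ≫ g = ξ := by rw [Category.assoc, e]
  rw [Fam.ofPullSect_val _ η (η ≫ ((EtCoh.bc g).obj V).hom) ξ e rfl e₂,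
    germ_pullSect g F σ η _ rfl ξ e', Equiv.symm_apply_apply]

/-- Every family over an étale `Y`-scheme is the family of a section. -/
theorem exists_ofPullSect {V : Y.Etale} (γ : Fam F (V.hom ≫ g)) :
    ∃ s : sect ((pullSh g).obj F) V, ∀ (Ω : Type u) [Field Ω] [IsSepClosed Ω]
      (η : Spec (.of Ω) ⟶ V.left) (ξ : Spec (.of Ω) ⟶ X) (e : η ≫ V.hom ≫ g = ξ),
      (Fam.ofPullSect s).val η ξ e = γ.val η ξ e := by
  obtain ⟨s, hs⟩ := γ.exists_pullSect
  refine ⟨s, fun Ω _ _ η ξ e => ?_⟩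
  have e₂ : (η ≫ V.hom) ≫ g = ξ := by rw [Category.assoc, e]
  rw [Fam.ofPullSect_val s η (η ≫ V.hom) ξ e rfl e₂, hs η (η ≫ V.hom) ξ rfl e₂ e,
    Equiv.symm_apply_apply]

end OfPull

section Crit

variable {X Y X' Y' : Scheme.{u}} (f : X ⟶ Y) (g : Y' ⟶ Y) (f' : X' ⟶ Y') (g' : X' ⟶ X)
  (w : g' ≫ f = f' ≫ g)

/-- Criterion for the degree zero base change map for sheaves of sets to be an isomorphism: local
injectivity and local surjectivity in terms of unit sections. -/
theorem isIso_baseChange0Sh (F : Sh X)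
    (hinj : ∀ (V : Y.Etale) (σ τ : sect F ((EtCoh.bc f).obj V)) (U : Y'.Etale)
      (b : U ⟶ (EtCoh.bc g).obj V),
      ((pullSh g').obj F).obj.map ((EtCoh.bc f').map b ≫ (theta f g f' g' w V).hom).op
        (pullSect g' F (U := (EtCoh.bc f).obj V) σ) =
      ((pullSh g').obj F).obj.map ((EtCoh.bc f').map b ≫ (theta f g f' g' w V).hom).op
        (pullSect g' F (U := (EtCoh.bc f).obj V) τ) →
      ∀ y : U.left, ∃ (V' : Y.Etale) (c : V' ⟶ V) (U' : Y'.Etale) (a : U' ⟶ U)
        (b' : U' ⟶ (EtCoh.bc g).obj V') (y' : U'.left), a.left y' = y ∧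
        a ≫ b = b' ≫ (EtCoh.bc g).map c ∧
        F.obj.map ((EtCoh.bc f).map c).op σ = F.obj.map ((EtCoh.bc f).map c).op τ)
    (hsurj : ∀ (U : Y'.Etale) (t : sect ((pullSh g').obj F) ((EtCoh.bc f').obj U))
      (y : U.left), ∃ (V : Y.Etale) (U' : Y'.Etale) (a : U' ⟶ U) (b : U' ⟶ (EtCoh.bc g).obj V)
        (σ : sect F ((EtCoh.bc f).obj V)) (y' : U'.left), a.left y' = y ∧
        ((pullSh g').obj F).obj.map ((EtCoh.bc f').map a).op t =
        ((pullSh g').obj F).obj.map ((EtCoh.bc f').map b ≫ (theta f g f' g' w V).hom).op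
          (pullSect g' F (U := (EtCoh.bc f).obj V) σ)) :
    IsIso (EtBC.baseChange0Sh f g f' g' w F) := by
  apply isIso_of_local
  · intro U s t hst x
    obtain ⟨V, σ, τ, W, a, b, w', hw', hs, ht⟩ :=
      exists_locally_unit₂ g ((pushSh f).obj F) U s t x
    have h0 := baseChange0Sh_pullSect' f g f' g' w F V σ W b
    have h0' := baseChange0Sh_pullSect' f g f' g' w F V τ W b
    have nat : ∀ r : sect ((pullSh g).obj ((pushSh f).obj F)) U,
        (EtBC.baseChange0Sh f g f' g' w F).hom.app (op W)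
          (((pullSh g).obj ((pushSh f).obj F)).obj.map a.op r) =
        ((pushSh f').obj ((pullSh g').obj F)).obj.map a.op
          ((EtBC.baseChange0Sh f g f' g' w F).hom.app (op U) r) :=
      fun r => ConcreteCategory.congr_hom
        ((EtBC.baseChange0Sh f g f' g' w F).hom.naturality a.op) r
    have h1 : (EtBC.baseChange0Sh f g f' g' w F).hom.app (op W)
        (((pullSh g).obj ((pushSh f).obj F)).obj.map b.op
          (pullSect g ((pushSh f).obj F) (U := V) σ)) =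
        (EtBC.baseChange0Sh f g f' g' w F).hom.app (op W)
        (((pullSh g).obj ((pushSh f).obj F)).obj.map b.op
          (pullSect g ((pushSh f).obj F) (U := V) τ)) := by
      rw [← hs, ← ht, nat, nat, hst]
    rw [h0, h0'] at h1
    obtain ⟨V', c, U', a', b', y', hy', hc, hσ⟩ := hinj V σ τ W b h1 w'
    refine ⟨U', a' ≫ a, y', ?_, ?_⟩
    · rw [← hw', ← hy']
      rfl
    · rw [← sh_map_map, ← sh_map_map, hs, ht, sh_map_map, sh_map_map, hc, ← sh_map_map,
        ← sh_map_map]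
      congr 1
      have h6 := pullSect_res g ((pushSh f).obj F) c σ
      have h7 := pullSect_res g ((pushSh f).obj F) c τ
      rw [← h6, ← h7]
      exact congrArg _ hσ
  · intro U t x
    obtain ⟨V, U', a, b, σ, y', hy', h⟩ := hsurj U t x
    refine ⟨U', a, y', ((pullSh g).obj ((pushSh f).obj F)).obj.map b.op
        (pullSect g ((pushSh f).obj F) (U := V) σ), hy', ?_⟩
    rw [baseChange0Sh_pullSect', ← h]
    rfl

variable {f g f' g'} in
/-- The family of germs of the restriction of a unit section along `kap`. -/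
theorem val_kap {F : Sh X} {V : Y.Etale} {U : Y'.Etale} (b : U ⟶ (EtCoh.bc g).obj V)
    (σ : sect F ((EtCoh.bc f).obj V)) {Ω : Type u} [Field Ω] [IsSepClosed Ω]
    (l : Spec (.of Ω) ⟶ ((EtCoh.bc f').obj U).left) (ξ : Spec (.of Ω) ⟶ X)
    (e : l ≫ ((EtCoh.bc f').obj U).hom ≫ g' = ξ)
    (h : (l ≫ kap f g f' g' w b) ≫ ((EtCoh.bc f).obj V).hom = ξ) :
    (Fam.ofPullSect (((pullSh g').obj F).obj.map
      ((EtCoh.bc f').map b ≫ (theta f g f' g' w V).hom).op
        (pullSect g' F (U := (EtCoh.bc f).obj V) σ))).val l ξ e =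
      germ F (l ≫ kap f g f' g' w b) h σ := by
  have e' : (l ≫ ((EtCoh.bc f').map b ≫ (theta f g f' g' w V).hom).left) ≫
      ((EtCoh.bc g').obj ((EtCoh.bc f).obj V)).hom ≫ g' = ξ := by
    rw [Category.assoc, ← e]
    congr 1
    rw [← Category.assoc]
    exact congrArg (· ≫ g') (Over.w ((EtCoh.bc f').map b ≫ (theta f g f' g' w V).hom).hom)
  refine (ofPullSect_map _ _ l ξ e e').trans ?_
  have e'' : ((l ≫ ((EtCoh.bc f').map b ≫ (theta f g f' g' w V).hom).left) ≫
      bcFst g' ((EtCoh.bc f).obj V)) ≫ ((EtCoh.bc f).obj V).hom = ξ := by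
    rw [← h]
    exact congrArg (· ≫ ((EtCoh.bc f).obj V).hom) (Category.assoc _ _ _)
  refine (ofPullSect_pullSect σ _ ξ e' e'').trans ?_
  congr 1

/-- Criterion for the degree zero base change map for sheaves of sets to be an isomorphism, in
terms of families of germs. -/
theorem isIso_baseChange0Sh_of_fam (F : Sh X)
    (hinj : ∀ (V : Y.Etale) (σ τ : sect F ((EtCoh.bc f).obj V)) (U : Y'.Etale)
      (b : U ⟶ (EtCoh.bc g).obj V),
      (∀ (Ω : Type u) [Field Ω] [IsSepClosed Ω] (l : Spec (.of Ω) ⟶ ((EtCoh.bc f').obj U).left)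
        (ξ : Spec (.of Ω) ⟶ X) (h : (l ≫ kap f g f' g' w b) ≫ ((EtCoh.bc f).obj V).hom = ξ),
        germ F (l ≫ kap f g f' g' w b) h σ = germ F (l ≫ kap f g f' g' w b) h τ) →
      ∀ y : U.left, ∃ (V' : Y.Etale) (c : V' ⟶ V) (U' : Y'.Etale) (a : U' ⟶ U)
        (b' : U' ⟶ (EtCoh.bc g).obj V') (y' : U'.left), a.left y' = y ∧
        a ≫ b = b' ≫ (EtCoh.bc g).map c ∧
        F.obj.map ((EtCoh.bc f).map c).op σ = F.obj.map ((EtCoh.bc f).map c).op τ)
    (hsurj : ∀ (U : Y'.Etale) (γ : Fam F (((EtCoh.bc f').obj U).hom ≫ g'))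
      (y : U.left), ∃ (V : Y.Etale) (U' : Y'.Etale) (a : U' ⟶ U) (b : U' ⟶ (EtCoh.bc g).obj V)
        (σ : sect F ((EtCoh.bc f).obj V)) (y' : U'.left), a.left y' = y ∧
        ∀ (Ω : Type u) [Field Ω] [IsSepClosed Ω]
          (l : Spec (.of Ω) ⟶ ((EtCoh.bc f').obj U').left) (ξ : Spec (.of Ω) ⟶ X)
          (h : (l ≫ ((EtCoh.bc f').map a).left) ≫ ((EtCoh.bc f').obj U).hom ≫ g' = ξ)
          (h' : (l ≫ kap f g f' g' w b) ≫ ((EtCoh.bc f).obj V).hom = ξ),
          γ.val (l ≫ ((EtCoh.bc f').map a).left) ξ h = germ F (l ≫ kap f g f' g' w b) h' σ) :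
    IsIso (EtBC.baseChange0Sh f g f' g' w F) := by
  refine isIso_baseChange0Sh f g f' g' w F (fun V σ τ U b h => hinj V σ τ U b ?_) ?_
  · intro Ω _ _ l ξ hl
    have e : l ≫ ((EtCoh.bc f').obj U).hom ≫ g' = ξ := by
      rw [← kap_hom f g f' g' w b, ← Category.assoc, hl]
    rw [← val_kap w b σ l ξ e hl, ← val_kap w b τ l ξ e hl, h]
  · intro U t y
    obtain ⟨V, U', a, b, σ, y', hy', h⟩ := hsurj U (Fam.ofPullSect t) y
    refine ⟨V, U', a, b, σ, y', hy', ?_⟩
    apply ofPullSect_ext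
    intro Ω _ _ η ξ e
    have hk : (η ≫ kap f g f' g' w b) ≫ ((EtCoh.bc f).obj V).hom = ξ := by
      rw [Category.assoc, kap_hom, e]
    have ha : (η ≫ ((EtCoh.bc f').map a).left) ≫ ((EtCoh.bc f').obj U).hom ≫ g' = ξ := by
      rw [Category.assoc, ← e]
      congr 1
      rw [← Category.assoc]
      exact congrArg (· ≫ g') (Over.w ((EtCoh.bc f').map a).hom)
    rw [ofPullSect_map _ t η ξ e ha, val_kap w b σ η ξ e hk]
    exact h Ω η ξ ha hk

end Crit

end Groth.Agent.Etbc.H186.BCCritSh
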