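import Groth.Agent.Sga4A.EtFamTr
import Groth.Agent.Etbc.H186.BCCritSh
import Mathlib.AlgebraicGeometry.Geometrically.Connected
import Mathlib.AlgebraicGeometry.Morphisms.FlatDescent

/-!
# Families of germs of étale sheaves of sets descend along submersive morphisms with connected fibres

* `val_eq_of_connected` : a family takes equal values at geometric points in one connected geometric
  fibre;
* `exists_of_connected` : families descend along `EtSubmersive` morphisms with connected geometric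
  fibres (existence);
* `exists_of_geometricallyConnected` : the same for surjective, universally open, geometrically
  connected morphisms.
-/

set_option autoImplicit false
set_option backward.isDefEq.respectTransparency.types false
universe u
open CategoryTheory CategoryTheory.Limits AlgebraicGeometry Opposite

namespace Groth.Agent.Etbc.H186.FamConnSh

open Groth.Agent.Sga4A.EtStalk EtDesc

variable {X Z Z' : Scheme.{u}} {F : Sh X}

/-- A family of germs takes equal values at two geometric points of one connected geometric fibre. -/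
theorem val_eq_of_connected (p : Z' ⟶ Z) (r : Z ⟶ X) (γ : Fam F (p ≫ r))
    {Ω : Type u} [Field Ω] [IsSepClosed Ω] (ζ : Spec (.of Ω) ⟶ Z) [ConnectedSpace ↥(pullback p ζ)]
    (z₁ z₂ : Spec (.of Ω) ⟶ Z') (h₁ : z₁ ≫ p = ζ) (h₂ : z₂ ≫ p = ζ) (ξ : Spec (.of Ω) ⟶ X)
    (e₁ : z₁ ≫ p ≫ r = ξ) (e₂ : z₂ ≫ p ≫ r = ξ) : γ.val z₁ ξ e₁ = γ.val z₂ ξ e₂ := by
  have hζ : ζ ≫ r = ξ := by rw [← h₁, Category.assoc, e₁]
  obtain ⟨U, l, hl, s, hs⟩ := exists_germ F (γ.val z₁ ξ e₁)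
  have k₁ : pullback.fst p ζ ≫ p ≫ r = pullback.snd p ζ ≫ ζ ≫ r := by
    rw [pullback.condition_assoc]
  have k₂ : (pullback.snd p ζ ≫ l) ≫ U.hom = pullback.snd p ζ ≫ ζ ≫ r := by
    rw [Category.assoc, hl, hζ]
  let γ' : Fam F (pullback.snd p ζ ≫ ζ ≫ r) := (γ.pull (pullback.fst p ζ)).congr k₁
  let c : Fam F (pullback.snd p ζ ≫ ζ ≫ r) :=
    ((Fam.ofSect s).pull (pullback.snd p ζ ≫ l)).congr k₂
  let m₁ : Spec (.of Ω) ⟶ pullback p ζ := pullback.lift z₁ (𝟙 _) (by rw [h₁, Category.id_comp])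
  let m₂ : Spec (.of Ω) ⟶ pullback p ζ := pullback.lift z₂ (𝟙 _) (by rw [h₂, Category.id_comp])
  have m₁f : m₁ ≫ pullback.fst p ζ = z₁ := pullback.lift_fst _ _ _
  have m₁s : m₁ ≫ pullback.snd p ζ = 𝟙 _ := pullback.lift_snd _ _ _
  have m₂f : m₂ ≫ pullback.fst p ζ = z₂ := pullback.lift_fst _ _ _
  have m₂s : m₂ ≫ pullback.snd p ζ = 𝟙 _ := pullback.lift_snd _ _ _
  have q₁ : m₁ ≫ pullback.snd p ζ ≫ ζ ≫ r = ξ := by
    rw [← Category.assoc, m₁s, Category.id_comp, hζ]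
  have q₂ : m₂ ≫ pullback.snd p ζ ≫ ζ ≫ r = ξ := by
    rw [← Category.assoc, m₂s, Category.id_comp, hζ]
  have v₁ : γ'.val m₁ ξ q₁ = γ.val z₁ ξ e₁ := by
    rw [Fam.congr_val]
    exact γ.val_congr m₁f ξ _ e₁
  have v₂ : γ'.val m₂ ξ q₂ = γ.val z₂ ξ e₂ := by
    rw [Fam.congr_val]
    exact γ.val_congr m₂f ξ _ e₂
  have l₁ : m₁ ≫ pullback.snd p ζ ≫ l = l := by rw [← Category.assoc, m₁s, Category.id_comp]
  have l₂ : m₂ ≫ pullback.snd p ζ ≫ l = l := by rw [← Category.assoc, m₂s, Category.id_comp]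
  have w₁ : c.val m₁ ξ q₁ = germ F l hl s := by
    rw [Fam.congr_val]
    exact (Fam.ofSect s).val_congr l₁ ξ _ hl
  have w₂ : c.val m₂ ξ q₂ = germ F l hl s := by
    rw [Fam.congr_val]
    exact (Fam.ofSect s).val_congr l₂ ξ _ hl
  have hclopen : IsClopen (Fam.Agree γ' c) :=
    ⟨Fam.isClosed_Agree_of_discrete _ _ γ' c, Fam.isOpen_Agree γ' c⟩
  have hmem : m₁ default ∈ Fam.Agree γ' c := by
    rw [Fam.mem_agree_iff γ' c m₁ ξ q₁, v₁, w₁, hs]
  have huniv : Fam.Agree γ' c = Set.univ := hclopen.eq_univ ⟨_, hmem⟩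
  have hmem₂ : m₂ default ∈ Fam.Agree γ' c := by rw [huniv]; trivial
  rw [Fam.mem_agree_iff γ' c m₂ ξ q₂, v₂, w₂, hs] at hmem₂
  exact hmem₂.symm

/-- Families descend along submersive morphisms with connected geometric fibres. -/
theorem exists_of_connected (p : Z' ⟶ Z) (hp : EtSubmersive p)
    (hc : ∀ (Ω : Type u) [Field Ω] [IsSepClosed Ω] (s : Spec (.of Ω) ⟶ Z),
      ConnectedSpace ↥(pullback p s)) (r : Z ⟶ X) (γ : Fam F (p ≫ r)) :
    ∃ δ : Fam F r, ∀ {Ω : Type u} [Field Ω] [IsSepClosed Ω] (z : Spec (.of Ω) ⟶ Z')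
      (ξ : Spec (.of Ω) ⟶ X) (h : (z ≫ p) ≫ r = ξ) (h' : z ≫ p ≫ r = ξ),
      δ.val (z ≫ p) ξ h = γ.val z ξ h' := by
  refine Fam.exists_descend hp γ ?_
  intro Ω _ _ z₁ z₂ h ξ e₁ e₂
  have := hc Ω (z₂ ≫ p)
  exact val_eq_of_connected p r γ (z₂ ≫ p) z₁ z₂ h rfl ξ e₁ e₂

/-- Families descend along surjective, universally open, geometrically connected morphisms. -/
theorem exists_of_geometricallyConnected (p : Z' ⟶ Z) [Surjective p] [UniversallyOpen p]
    [GeometricallyConnected p] (r : Z ⟶ X) (γ : Fam F (p ≫ r)) :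
    ∃ δ : Fam F r, ∀ {Ω : Type u} [Field Ω] [IsSepClosed Ω] (z : Spec (.of Ω) ⟶ Z')
      (ξ : Spec (.of Ω) ⟶ X) (h : (z ≫ p) ≫ r = ξ) (h' : z ≫ p ≫ r = ξ),
      δ.val (z ≫ p) ξ h = γ.val z ξ h' :=
  exists_of_connected p (etSubmersive_of_universallyOpen p)
    (fun _ _ _ s => GeometricallyConnected.geometrically_connectedSpace s _ _
      (IsPullback.of_hasPullback _ s)) r γ

end Groth.Agent.Etbc.H186.FamConnSh
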