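import Groth.Agent.EtpbcB.BCFlat
import Groth.Agent.Etbc.H186.FamConnSh

/-!
# Degree zero base change for sheaves of sets along universally open morphisms with étale local
connected factorizations

* `hinj_of_universallyOpen` : local injectivity of the base change map along a universally open
  morphism;
* `isIso_baseChange0Sh_of_factor` : if étale locally on `Y'` the morphism `Y' ⟶ Y` factors as a
  surjective universally open morphism with geometrically connected fibres followed by an étale
  morphism, then the degree zero base change map for sheaves of sets is an isomorphism.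
-/

set_option autoImplicit false
set_option backward.isDefEq.respectTransparency.types false
universe u
open CategoryTheory CategoryTheory.Limits AlgebraicGeometry Opposite

namespace Groth.Agent.Etbc.H186.BCFlatSh

open Groth.Agent.EtpbcB.BCCrit Groth.Agent.Sga4A.EtStalk EtDesc
open Groth.Agent.EtpbcB.Big (etHom et_w et_hom_ext)

variable {X Y X' Y' : Scheme.{u}} {f : X ⟶ Y} {g : Y' ⟶ Y} {f' : X' ⟶ Y'} {g' : X' ⟶ X}

/-- Local injectivity of the base change map along a universally open morphism. -/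
theorem hinj_of_universallyOpen (H : IsPullback g' f' f g) [UniversallyOpen g] (F : Sh X)
    (V : Y.Etale) (σ τ : sect F ((EtCoh.bc f).obj V)) (U : Y'.Etale)
    (b : U ⟶ (EtCoh.bc g).obj V)
    (hσ : ∀ (Ω : Type u) [Field Ω] [IsSepClosed Ω] (l : Spec (.of Ω) ⟶ ((EtCoh.bc f').obj U).left)
        (ξ : Spec (.of Ω) ⟶ X) (h : (l ≫ kap f g f' g' H.w b) ≫ ((EtCoh.bc f).obj V).hom = ξ),
        germ F (l ≫ kap f g f' g' H.w b) h σ = germ F (l ≫ kap f g f' g' H.w b) h τ)
    (y : U.left) :
    ∃ (V' : Y.Etale) (c : V' ⟶ V) (U' : Y'.Etale) (a : U' ⟶ U)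
        (b' : U' ⟶ (EtCoh.bc g).obj V') (y' : U'.left), a.left y' = y ∧
        a ≫ b = b' ≫ (EtCoh.bc g).map c ∧
        F.obj.map ((EtCoh.bc f).map c).op σ = F.obj.map ((EtCoh.bc f).map c).op τ := by
  have ho : IsOpenMap (b.left ≫ bcFst g V) := by
    have h1 : UniversallyOpen (bcFst g V) :=
      MorphismProperty.of_isPullback (P := @UniversallyOpen)
        (Groth.Agent.EtpbcB.Big.isPullback_bc g V).flip ‹_›
    exact (Scheme.Hom.isOpenMap (b.left ≫ bcFst g V))
  let W : V.left.Opens := ⟨Set.range (b.left ≫ bcFst g V), ho.isOpen_range⟩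
  let V' : Y.Etale := Scheme.Etale.mk (W.ι ≫ V.hom)
  let c : V' ⟶ V := etHom W.ι rfl
  have hr : Set.range (b.left ≫ bcFst g V) ⊆ Set.range W.ι := by
    rw [Scheme.Opens.range_ι]
    exact subset_rfl
  let m : U.left ⟶ (W : Scheme.{u}) := IsOpenImmersion.lift W.ι (b.left ≫ bcFst g V) hr
  have hm : m ≫ W.ι = b.left ≫ bcFst g V := IsOpenImmersion.lift_fac _ _ _
  have e1 : m ≫ V'.hom = U.hom ≫ g := by
    change m ≫ W.ι ≫ V.hom = U.hom ≫ g
    rw [← Category.assoc, hm, Category.assoc, bc_condition, ← Category.assoc, et_w]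
  let b' : U ⟶ (EtCoh.bc g).obj V' := etHom (pullback.lift m U.hom e1) (pullback.lift_snd _ _ _)
  have hb' : b'.left ≫ bcFst g V' = m := pullback.lift_fst _ _ _
  refine ⟨V', c, U, 𝟙 U, b', y, rfl, ?_, ?_⟩
  · rw [Category.id_comp]
    apply et_hom_ext
    apply hom_ext_bc g
    · have h1 : (b' ≫ (EtCoh.bc g).map c).left = b'.left ≫ ((EtCoh.bc g).map c).left := rfl
      rw [h1, Category.assoc, bc_map_fst, ← Category.assoc, hb']
      exact hm.symm
    · rw [et_w, et_w]
  · have hsurj : Surjective (kap f g f' g' H.w b') := by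
      have h1 : Surjective m := by
        refine ⟨fun w => ?_⟩
        obtain ⟨u, hu⟩ := w.2
        refine ⟨u, ?_⟩
        apply W.ι.injective
        rw [← Scheme.Hom.comp_apply, hm]
        exact hu
      have h2 := Groth.Agent.EtpbcB.BCFlat.isPullback_kap H b'
      rw [hb'] at h2
      exact MorphismProperty.of_isPullback (P := @Surjective) h2.flip h1
    have hk : kap f g f' g' H.w b' ≫ ((EtCoh.bc f).map c).left = kap f g f' g' H.w b := by
      apply hom_ext_bc f
      · rw [Category.assoc, bc_map_fst, ← Category.assoc, kap_fst, kap_fst, Category.assoc,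
          Category.assoc]
        have h3 : c.left = W.ι := rfl
        rw [h3, ← hm, ← hb']
        exact congrArg (bcFst f' U ≫ ·) (Category.assoc _ _ _).symm
      · rw [Category.assoc, et_w, kap_hom, kap_hom]
    refine sect_ext_germ F _ _ _ fun z => ?_
    obtain ⟨z', rfl⟩ := hsurj.surj z
    obtain ⟨Ω, _, _, l, rfl⟩ := exists_geomPoint _ z'
    refine ⟨Ω, inferInstance, inferInstance, l ≫ kap f g f' g' H.w b', rfl, ?_⟩
    have e2 : (l ≫ kap f g f' g' H.w b) ≫ ((EtCoh.bc f).obj V).hom =
        (l ≫ kap f g f' g' H.w b') ≫ ((EtCoh.bc f).obj V').hom := by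
      rw [← hk, Category.assoc, Category.assoc, Category.assoc]
      congr 2
      exact Over.w ((EtCoh.bc f).map c).hom
    have e3 : (l ≫ kap f g f' g' H.w b') ≫ ((EtCoh.bc f).map c).left =
        l ≫ kap f g f' g' H.w b := by rw [Category.assoc, hk]
    rw [germ_res' F ((EtCoh.bc f).map c) (l ≫ kap f g f' g' H.w b') rfl
        (l ≫ kap f g f' g' H.w b) e2 e3 σ,
      germ_res' F ((EtCoh.bc f).map c) (l ≫ kap f g f' g' H.w b') rfl
        (l ≫ kap f g f' g' H.w b) e2 e3 τ]
    exact hσ Ω l _ e2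

/-- Degree zero base change for sheaves of sets along universally open morphisms which étale locally
factor as a surjective universally open morphism with connected geometric fibres followed by an
étale morphism. -/
theorem isIso_baseChange0Sh_of_factor (H : IsPullback g' f' f g) [UniversallyOpen g] (F : Sh X)
    (hfac : ∀ (U : Y'.Etale) (y : U.left), ∃ (U₁ V₁ : Scheme.{u}) (a : U₁ ⟶ U.left) (b : U₁ ⟶ V₁)
      (c : V₁ ⟶ Y), Etale a ∧ y ∈ Set.range a ∧ Etale c ∧ a ≫ U.hom ≫ g = b ≫ c ∧
      Surjective b ∧ UniversallyOpen b ∧ GeometricallyConnected b) :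
    IsIso (EtBC.baseChange0Sh f g f' g' H.w F) := by
  refine Groth.Agent.Etbc.H186.BCCritSh.isIso_baseChange0Sh_of_fam f g f' g' H.w F
    (fun V σ τ U b h y => hinj_of_universallyOpen H F V σ τ U b h y) ?_
  intro U γ y
  obtain ⟨U₁, V₁, a, b, c, ha, ⟨y', hy'⟩, hc, hw, hb1, hb2, hb3⟩ := hfac U y
  let V : Y.Etale := Scheme.Etale.mk c
  let U' : Y'.Etale := Scheme.Etale.mk (a ≫ U.hom)
  let a' : U' ⟶ U := etHom a rfl
  have e : b ≫ V.hom = (a ≫ U.hom) ≫ g := by rw [Category.assoc, hw]; rfl
  let b' : U' ⟶ (EtCoh.bc g).obj V := etHom (pullback.lift b (a ≫ U.hom) e)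
    (pullback.lift_snd _ _ _)
  have hb' : b'.left ≫ bcFst g V = b := pullback.lift_fst _ _ _
  have hP := Groth.Agent.EtpbcB.BCFlat.isPullback_kap H b'
  rw [hb'] at hP
  have h1 : Surjective (kap f g f' g' H.w b') :=
    MorphismProperty.of_isPullback (P := @Surjective) hP.flip hb1
  have h2 : UniversallyOpen (kap f g f' g' H.w b') :=
    MorphismProperty.of_isPullback (P := @UniversallyOpen) hP.flip hb2
  have h3 : GeometricallyConnected (kap f g f' g' H.w b') :=
    MorphismProperty.of_isPullback (P := @GeometricallyConnected) hP.flip hb3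
  have e4 : ((EtCoh.bc f').map a').left ≫ ((EtCoh.bc f').obj U).hom ≫ g' =
      kap f g f' g' H.w b' ≫ ((EtCoh.bc f).obj V).hom := by
    rw [kap_hom, ← Category.assoc]
    exact congrArg (· ≫ g') (Over.w ((EtCoh.bc f').map a').hom)
  obtain ⟨δ, hδ⟩ := FamConnSh.exists_of_geometricallyConnected (kap f g f' g' H.w b')
    ((EtCoh.bc f).obj V).hom ((γ.pull ((EtCoh.bc f').map a').left).congr e4)
  obtain ⟨σ, hσ⟩ := δ.exists_sect
  refine ⟨V, U', a', b', σ, y', hy', ?_⟩
  intro Ω _ _ l ξ h h'
  have h5 : l ≫ kap f g f' g' H.w b' ≫ ((EtCoh.bc f).obj V).hom = ξ := by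
    rw [← Category.assoc]
    exact h'
  rw [hσ (l ≫ kap f g f' g' H.w b') ξ h', hδ l ξ h' h5, Fam.congr_val]
  rfl

end Groth.Agent.Etbc.H186.BCFlatSh
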